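import Cfsg.Agent.Lib.KnownA.SpTwoGen.Core

/-!
# Two generators of the symplectic group over a field with at least three elements
-/

set_option autoImplicit false
set_option linter.unusedSectionVars false

namespace CfsgLib.KnownA.SpTwoGen

open CfsgLib.Classical

noncomputable section

variable {F : Type*} [Field F] [Fintype F] {n : ℕ}

/-- An additive one-parameter family. -/
def addSet {G : Type*} [Group G] (H : Subgroup G) (g : F → G) (hg0 : g 0 = 1)
    (hg : ∀ c d, g c * g d = g (c + d)) : AddSubgroup F where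
  carrier := {c | g c ∈ H}
  zero_mem' := by show g 0 ∈ H; rw [hg0]; exact one_mem _
  add_mem' {c d} hc hd := by show g (c + d) ∈ H; rw [← hg]; exact mul_mem hc hd
  neg_mem' {c} hc := by
    show g (-c) ∈ H
    have : g (-c) = (g c)⁻¹ := eq_inv_of_mul_eq_one_left (by rw [hg, neg_add_cancel, hg0])
    rw [this]; exact inv_mem hc

theorem all_lin {G : Type*} [Group G] {H : Subgroup G} {g : F → G} (hg0 : g 0 = 1)
    (hg : ∀ c d, g c * g d = g (c + d)) {ω : Fˣ} (hω : ∀ x : Fˣ, x ∈ Subgroup.zpowers ω) {c0 : F}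
    (hc : c0 ≠ 0) (hc0 : g c0 ∈ H) (hmul : ∀ c, g c ∈ H → g ((ω : F) * c) ∈ H) (c : F) : g c ∈ H := by
  by_cases h0 : c = 0
  · rw [h0, hg0]; exact one_mem _
  obtain ⟨k, hk⟩ := (Submonoid.mem_powers_iff _ _).1
    (mem_powers_iff_mem_zpowers.2 (hω (Units.mk0 c h0 / Units.mk0 c0 hc)))
  have hpow : ∀ k : ℕ, g (((ω ^ k : Fˣ) : F) * c0) ∈ H := by
    intro k
    induction k with
    | zero => simpa using hc0
    | succ k ih =>
      have := hmul _ ih
      rwa [← mul_assoc, ← Units.val_mul, ← pow_succ'] at this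
  have := hpow k
  rwa [hk, Units.val_div_eq_div_val, Units.val_mk0, Units.val_mk0, div_mul_cancel₀ _ hc] at this

theorem exists_sum_two_sq (x : F) : ∃ a b : F, a ^ 2 + b ^ 2 = x := by
  by_cases hF : ringChar F = 2
  · obtain ⟨s, hs⟩ := FiniteField.isSquare_of_char_two hF x
    exact ⟨s, 0, by rw [hs]; ring⟩
  · open Polynomial in
    obtain ⟨a, b, hab⟩ := FiniteField.exists_root_sum_quadratic (f := (X ^ 2 : F[X]))
      (g := X ^ 2 - C x) (degree_X_pow 2) (degree_X_pow_sub_C (by decide) _)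
      (FiniteField.odd_card_of_char_ne_two hF)
    refine ⟨a, b, ?_⟩
    simp at hab
    linear_combination hab

theorem all_sq {G : Type*} [Group G] {H : Subgroup G} {g : F → G} (hg0 : g 0 = 1)
    (hg : ∀ c d, g c * g d = g (c + d)) {ω : Fˣ} (hω : ∀ x : Fˣ, x ∈ Subgroup.zpowers ω) {c0 : F}
    (hc : c0 ≠ 0) (hc0 : g c0 ∈ H) (hmul : ∀ c, g c ∈ H → g ((ω : F) * (ω : F) * c) ∈ H) (c : F) :
    g c ∈ H := by
  have hs : ∀ a : F, g (a ^ 2 * c0) ∈ H := by
    intro a
    by_cases h0 : a = 0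
    · rw [h0, zero_pow (by norm_num), zero_mul, hg0]; exact one_mem _
    obtain ⟨k, hk⟩ := (Submonoid.mem_powers_iff _ _).1
      (mem_powers_iff_mem_zpowers.2 (hω (Units.mk0 a h0)))
    have ha : a = (ω : F) ^ k := by
      rw [← Units.val_pow_eq_pow_val, hk, Units.val_mk0]
    subst ha
    clear hk h0
    induction k with
    | zero => simpa using hc0
    | succ k ih =>
      have := hmul _ ih
      rwa [show (ω : F) * ω * (((ω : F) ^ k) ^ 2 * c0) = ((ω : F) ^ (k + 1)) ^ 2 * c0 by ring] at this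
  obtain ⟨a, b, hab⟩ := exists_sum_two_sq (c / c0)
  have : g (a ^ 2 * c0 + b ^ 2 * c0) ∈ H := by rw [← hg]; exact mul_mem (hs a) (hs b)
  rwa [← add_mul, hab, div_mul_cancel₀ _ hc] at this

theorem exists_gen (hq : 3 ≤ Fintype.card F) :
    ∃ ω : Fˣ, (∀ x : Fˣ, x ∈ Subgroup.zpowers ω) ∧ (ω : F) ≠ 1 := by
  obtain ⟨ω, hω⟩ := IsCyclic.exists_generator (α := Fˣ)
  refine ⟨ω, hω, fun h => ?_⟩
  have h1 : ω = 1 := Units.ext h
  have hsub : Subsingleton Fˣ := ⟨fun x y => by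
    have hx := hω x
    have hy := hω y
    rw [h1, Subgroup.zpowers_one_eq_bot, Subgroup.mem_bot] at hx hy
    rw [hx, hy]⟩
  have : Nat.card Fˣ ≤ 1 := Finite.card_le_one_iff_subsingleton.2 hsub
  rw [Nat.card_units, Nat.card_eq_fintype_card] at this
  omega

theorem S_Tv_mul {u v : Vec n F} (h : sympBil F (n + 1) u v = 0) (a b c d : F) :
    (S u v a * Tv u b) * (S u v c * Tv u d) = S u v (a + c) * Tv u (b + d) := by
  rw [mul_assoc, ← mul_assoc (Tv u b), ← (S_Tv_comm h c b).eq, mul_assoc, ← mul_assoc, S_add h,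
    Tv, Tv, tv_mul]

theorem S_Tv_inv {u v : Vec n F} (h : sympBil F (n + 1) u v = 0) (a b : F) :
    (S u v a * Tv u b)⁻¹ = S u v (-a) * Tv u (-b) := by
  refine inv_eq_of_mul_eq_one_right ?_
  rw [S_Tv_mul h, add_neg_cancel, add_neg_cancel, S_zero h, Tv, tv_zero, one_mul]

theorem hT_S {i : Fin (n + 1)} {t : Fˣ} {u v : Vec n F} (h : sympBil F (n + 1) u v = 0) {a b : F}
    (hu : (hT i t).1 u = a • u) (hv : (hT i t).1 v = b • v) (c : F) :
    hT i t * S u v c * (hT i t)⁻¹ = S u v (a * b * c) := by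
  rw [conj_sv, hu, hv, ← S, S_smul_left (by rw [map_smul, h, smul_zero]), S_smul_right h]
  congr 1
  ring

theorem hT_Tv {i : Fin (n + 1)} {t : Fˣ} {u : Vec n F} {a : F}
    (hu : (hT i t).1 u = a • u) (c : F) :
    hT i t * Tv u c * (hT i t)⁻¹ = Tv u (a * a * c) := by
  rw [conj_tv, hu, tv_smul]

theorem conj_mul_conj {G : Type*} [Group G] (g a b : G) :
    g * (a * b) * g⁻¹ = (g * a * g⁻¹) * (g * b * g⁻¹) := by group

/-- Two generators for rank at least three. -/
theorem gen_large (hn : 2 ≤ n) (hq : 3 ≤ Fintype.card F) :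
    ∃ a b : Sp n F, Subgroup.closure {a, b} = ⊤ := by
  classical
  obtain ⟨ω, hω, hω1⟩ := exists_gen hq
  let i1 : Fin (n + 1) := ⟨1, by omega⟩
  let i2 : Fin (n + 1) := ⟨2, by omega⟩
  have h12 : i1 ≠ i2 := by simp [i1, i2, Fin.ext_iff]
  have h01 : i1 ≠ 0 := by simp [i1, Fin.ext_iff]
  have h02 : i2 ≠ 0 := by simp [i2, Fin.ext_iff]
  have o12 : sympBil F (n + 1) (E i1) (E i2 : Vec n F) = 0 := E_orth _ _
  set u : Sp n F := S (E i1) (E i2) 1 * Tv (E i1) 1 with hu
  set h : Sp n F := hT 0 ω with hh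
  refine ⟨h * u, w, ?_⟩
  set H := Subgroup.closure ({h * u, w} : Set (Sp n F))
  have hw : w ∈ H := Subgroup.subset_closure (by simp)
  have hcomm : Commute h u := by
    rw [Commute, SemiconjBy, ← mul_inv_eq_iff_eq_mul, hu, conj_mul_conj,
      hT_S o12 (a := 1) (b := 1) (by rw [one_smul, hT_E_ne h01]) (by rw [one_smul, hT_E_ne h02]),
      hT_Tv (a := 1) (by rw [one_smul, hT_E_ne h01]), one_mul, one_mul]
  have hupow : ∀ k : ℕ, u ^ k = S (E i1) (E i2) (k : F) * Tv (E i1) (k : F) := by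
    intro k
    induction k with
    | zero => rw [pow_zero, Nat.cast_zero, S_zero o12, Tv, tv_zero, one_mul]
    | succ k ih => rw [pow_succ, ih, hu, S_Tv_mul o12, Nat.cast_succ]
  have hhpow : h ^ (Fintype.card F - 1) = 1 := by
    rw [hh, ← map_pow]
    have : ω ^ (Fintype.card F - 1) = 1 := by
      rw [← Fintype.card_units]; exact pow_card_eq_one
    rw [this, map_one]
  have hu' : u⁻¹ = (h * u) ^ (Fintype.card F - 1) := by
    rw [hcomm.mul_pow, hhpow, one_mul, hupow, Nat.cast_sub Fintype.card_pos,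
      Nat.cast_card_eq_zero, Nat.cast_one, zero_sub, hu, S_Tv_inv o12]
  have huH : u ∈ H := by
    rw [← inv_mem_iff, hu']
    exact pow_mem (Subgroup.subset_closure (by simp)) _
  have hhH : h ∈ H := by
    have := mul_mem (Subgroup.subset_closure (show h * u ∈ ({h * u, w} : Set (Sp n F)) by simp) :
      h * u ∈ H) (inv_mem huH)
    rwa [mul_inv_cancel_right] at this
  have hhi : ∀ i : Fin (n + 1), hT i ω ∈ H := by
    intro i
    induction i using Fin.induction with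
    | zero => exact hhH
    | succ i ih => rw [← w_hT]; exact mul_mem (mul_mem hw ih) (inv_mem hw)
  have e2u : hT i2 ω * u * (hT i2 ω)⁻¹ = S (E i1) (E i2) (ω : F) * Tv (E i1) 1 := by
    rw [hu, conj_mul_conj, hT_S o12 (a := 1) (b := (ω : F)) (by rw [one_smul, hT_E_ne h12])
      (hT_E_self _ _), hT_Tv (a := 1) (by rw [one_smul, hT_E_ne h12])]
    simp
  have hS0 : S (E i1) (E i2) ((ω : F) - 1) ∈ H := by
    have := mul_mem (mul_mem (mul_mem (hhi i2) huH) (inv_mem (hhi i2))) (inv_mem huH)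
    rw [e2u, hu, S_Tv_inv o12, S_Tv_mul o12, add_neg_cancel, Tv, tv_zero, mul_one,
      ← sub_eq_add_neg] at this
    exact this
  have hS12 : ∀ c, S (E i1) (E i2) c ∈ H := all_lin (S_zero o12) (S_add o12) hω (sub_ne_zero.2 hω1)
    hS0 fun c hc => by
      have := mul_mem (mul_mem (hhi i2) hc) (inv_mem (hhi i2))
      rwa [hT_S o12 (a := 1) (b := (ω : F)) (by rw [one_smul, hT_E_ne h12]) (hT_E_self _ _),
        one_mul] at this
  have hT1 : Tv (E i1) 1 ∈ H := by
    have := mul_mem (hS12 (-1)) huH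
    rwa [hu, ← mul_assoc, S_add o12, neg_add_cancel, S_zero o12, one_mul] at this
  have hG1 : Good H (E i1) := all_sq (tv_zero _ _) (tv_mul _ _) hω one_ne_zero hT1 fun c hc => by
    have := mul_mem (mul_mem (hhi i1) hc) (inv_mem (hhi i1))
    rwa [hT_Tv (hT_E_self _ _)] at this
  have e1 : wFun (E 0 : Vec n F) = E i1 := by
    have := w_E (F := F) (⟨0, by omega⟩ : Fin n)
    simpa [i1] using this
  have e2 : wFun (E i1 : Vec n F) = E i2 := by
    have := w_E (F := F) (⟨1, by omega⟩ : Fin n)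
    simpa [i1, i2] using this
  refine top_of (by omega) hw (Good.of_map hw (by rw [w_apply, e1]; exact hG1)) fun h c => ?_
  have hc := hS12 c
  rw [show S (E i1) (E i2) c = w * S (E 0) (E i1) c * w⁻¹ by
    rw [conj_sv, w_apply, w_apply, e1, e2]] at hc
  have := mul_mem (mul_mem (inv_mem hw) hc) hw
  rwa [show w⁻¹ * (w * S (E 0) (E i1) c * w⁻¹) * w = S (E 0) (E i1) c by group] at this

set_option maxHeartbeats 1600000 in
/-- Two generators in rank two. -/
theorem gen_two (hq : 3 ≤ Fintype.card F) :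
    ∃ a b : Sp 1 F, Subgroup.closure {a, b} = ⊤ := by
  classical
  obtain ⟨ω, hω, hω1⟩ := exists_gen hq
  have h10 : (1 : Fin 2) ≠ 0 := by decide
  have hl : (Fin.last 1) = (1 : Fin 2) := rfl
  have o01 : sympBil F 2 (E (n := 1) 0) (E 1) = 0 := E_orth _ _
  set x : Sp 1 F := S (E 0) (E 1) 1 * Tv (E 0) 1 with hx
  set h : Sp 1 F := hT 0 ω with hh
  refine ⟨h, x * w, ?_⟩
  set H := Subgroup.closure ({h, x * w} : Set (Sp 1 F))
  have hhH : h ∈ H := Subgroup.subset_closure (by simp)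
  have hbH : x * w ∈ H := Subgroup.subset_closure (by simp)
  set h1 : Sp 1 F := hT 1 ω with hh1
  have hwh : w * h * w⁻¹ = h1 := by
    have := w_hT (F := F) (n := 1) 0 ω
    simpa [hh, hh1] using this
  have hcomm : Commute h h1 := by
    refine Subtype.ext (LinearEquiv.ext fun y => funext fun k => ?_)
    simp only [Subgroup.coe_mul, LinearEquiv.mul_apply, hh, hh1, hT_apply]
    ring
  have eS : ∀ c, h * S (E 0) (E 1) c * h⁻¹ = S (E 0) (E 1) ((ω : F) * c) := fun c => by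
    rw [hh, hT_S o01 (hT_E_self _ _) (b := 1) (by rw [one_smul, hT_E_ne h10]), mul_one]
  have eX : ∀ c d, h * (S (E 0) (E 1) c * Tv (E 0) d) * h⁻¹ =
      S (E 0) (E 1) ((ω : F) * c) * Tv (E 0) ((ω : F) * ω * d) := fun c d => by
    rw [conj_mul_conj, eS, hh, hT_Tv (hT_E_self _ _)]
  have eX1 : ∀ c d, h1 * (S (E 0) (E 1) c * Tv (E 0) d) * h1⁻¹ =
      S (E 0) (E 1) ((ω : F) * c) * Tv (E 0) d := fun c d => by
    rw [conj_mul_conj, hh1, hT_S o01 (a := 1) (by rw [one_smul, hT_E_ne h10.symm]) (hT_E_self _ _),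
      hT_Tv (a := 1) (by rw [one_smul, hT_E_ne h10.symm]), one_mul, one_mul, one_mul]
  have hz : h * (x * w * h * (x * w)⁻¹) * h⁻¹ * (x * w * h * (x * w)⁻¹)⁻¹ =
      S (E 0) (E 1) (-((ω : F) - 1) ^ 2) := by
    have e : x * w * h * (x * w)⁻¹ = x * h1 * x⁻¹ := by rw [← hwh]; group
    rw [e]
    calc h * (x * h1 * x⁻¹) * h⁻¹ * (x * h1 * x⁻¹)⁻¹
        = (h * x * h⁻¹) * ((h * h1) * x⁻¹ * (h * h1)⁻¹) * (h * h1 * h⁻¹ * h1⁻¹) *
            (h1 * x * h1⁻¹) * x⁻¹ := by group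
      _ = (h * x * h⁻¹) * (h * (h1 * x⁻¹ * h1⁻¹) * h⁻¹) * (h1 * x * h1⁻¹) * x⁻¹ := by
          rw [hcomm.eq, mul_inv_cancel_right, mul_inv_cancel, mul_one, ← hcomm.eq]; group
      _ = _ := by
          rw [hx, S_Tv_inv o01, eX, eX1, eX1, eX, S_Tv_mul o01, S_Tv_mul o01, S_Tv_mul o01]
          rw [show (ω : F) * ω * 1 + (ω : F) * ω * -1 + 1 + -1 = 0 by ring, Tv, tv_zero, mul_one]
          congr 1
          ring
  have hS01 : ∀ c, S (E 0) (E 1) c ∈ H := by
    refine all_lin (S_zero o01) (S_add o01) hω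
      (neg_ne_zero.2 (pow_ne_zero 2 (sub_ne_zero.2 hω1))) ?_ fun c hc => ?_
    · have hb := mul_mem (mul_mem hbH hhH) (inv_mem hbH)
      rw [← hz]
      exact mul_mem (mul_mem (mul_mem hhH hb) (inv_mem hhH)) (inv_mem hb)
    · have := mul_mem (mul_mem hhH hc) (inv_mem hhH)
      rwa [eS] at this
  set b' : Sp 1 F := Tv (E 0) 1 * w with hb'
  have hb'H : b' ∈ H := by
    have := mul_mem (hS01 (-1)) hbH
    rwa [hx, ← mul_assoc, ← mul_assoc, S_add o01, neg_add_cancel, S_zero o01, one_mul] at this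
  have wE0 : wFun (E 0 : Vec 1 F) = E 1 := by simpa using w_E (F := F) (0 : Fin 1)
  have wE1 : wFun (E 1 : Vec 1 F) = Fv 0 := by
    have := w_E_last (F := F) (n := 1)
    rwa [hl] at this
  have wF0 : wFun (Fv 0 : Vec 1 F) = Fv 1 := by simpa using w_F (F := F) (0 : Fin 1)
  have wF1 : wFun (Fv 1 : Vec 1 F) = -E 0 := by
    have := w_F_last (F := F) (n := 1)
    rwa [hl] at this
  have bE0 : b'.1 (E 0) = (E 1 : Vec 1 F) := by
    simp [hb', Subgroup.coe_mul, LinearEquiv.mul_apply, tv_apply, wE0]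
  have bE1 : b'.1 (E 1) = (Fv 0 + E 0 : Vec 1 F) := by
    simp [hb', Subgroup.coe_mul, LinearEquiv.mul_apply, tv_apply, wE1]
  have oy : sympBil F 2 (E (n := 1) 1) (Fv 0 + E 0) = 0 := by simp
  have hY : ∀ c, S (E (n := 1) 1) (Fv 0 + E 0) c ∈ H := fun c => by
    have := mul_mem (mul_mem hb'H (hS01 c)) (inv_mem hb'H)
    rwa [conj_sv, bE0, bE1] at this
  have o1F : sympBil F 2 (E (n := 1) 1) (Fv 0) = 0 := EF_orth h10
  have hsplit : ∀ c : F, (S (E 1) (E 0) (-c) * S (E 1) (Fv 0 + E 0) c : Sp 1 F) =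
      S (E (n := 1) 1) (Fv 0) c * Tv (E 1) (-(c * c)) := by
    intro c
    refine Subtype.ext (LinearEquiv.ext fun y => ?_)
    simp only [Subgroup.coe_mul, LinearEquiv.mul_apply, sv_apply hA (E_orth (F := F) (n := 1) 1 0), sv_apply hA oy,
      sv_apply hA o1F, tv_apply]
    funext k
    rcases k with j | j <;> fin_cases j <;> simp <;> ring
  have hZ : ∀ c, S (E (n := 1) 1) (Fv 0) c * Tv (E 1) (-(c * c)) ∈ H := fun c => by
    rw [← hsplit]
    refine mul_mem ?_ (hY c)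
    rw [S_swap (E_orth _ _)]
    exact hS01 _
  have eF : ∀ c, h * S (E 1) (Fv 0) c * h⁻¹ = S (E 1) (Fv 0) (((ω⁻¹ : Fˣ) : F) * c) := fun c => by
    rw [hh, hT_S o1F (a := 1) (by rw [one_smul, hT_E_ne h10]) (hT_F_self _ _), one_mul]
  have hF0 : S (E 1) (Fv 0) (1 - ((ω⁻¹ : Fˣ) : F)) ∈ H := by
    have := mul_mem (hZ 1) (inv_mem (mul_mem (mul_mem hhH (hZ 1)) (inv_mem hhH)))
    rw [conj_mul_conj, eF, hh, hT_Tv (a := 1) (by rw [one_smul, hT_E_ne h10]), one_mul, one_mul,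
      S_Tv_inv o1F, S_Tv_mul o1F, add_neg_cancel, Tv, tv_zero, mul_one] at this
    simpa [sub_eq_add_neg] using this
  have hωi : ((ω⁻¹ : Fˣ) : F) ≠ 1 := by
    intro e
    apply hω1
    rw [Units.val_inv_eq_inv_val, inv_eq_one] at e
    exact e
  have hF : ∀ c, S (E (n := 1) 1) (Fv 0) c ∈ H := all_lin (S_zero o1F) (S_add o1F)
    (ω := ω⁻¹) (fun z => by rw [Subgroup.zpowers_inv]; exact hω z)
    (sub_ne_zero.2 hωi.symm) hF0 fun c hc => by
      have := mul_mem (mul_mem hhH hc) (inv_mem hhH)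
      rwa [eF] at this
  have hT1 : Tv (E 1) (-1) ∈ H := by
    have := mul_mem (inv_mem (hF 1)) (hZ 1)
    rwa [inv_mul_cancel_left, mul_one] at this
  have hG1 : Good H (E 1) := by
    intro c
    obtain ⟨a, b, hab⟩ := exists_sum_two_sq (-c)
    have hsq : ∀ a : F, Tv (E 1) (-(a ^ 2)) ∈ H := fun a => by
      have := mul_mem (inv_mem (hF a)) (hZ a)
      rwa [inv_mul_cancel_left, ← pow_two] at this
    have := mul_mem (hsq a) (hsq b)
    rwa [Tv, Tv, tv_mul, show -(a ^ 2) + -(b ^ 2) = c by linear_combination -hab] at this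
  have hy1 : Good H (Fv 0 + E 0) := by rw [← bE1]; exact hG1.map hb'H
  have bY : b'.1 (Fv 0 + E 0) = (Fv 1 + E 1 : Vec 1 F) := by
    rw [map_add, bE0]
    simp [hb', Subgroup.coe_mul, LinearEquiv.mul_apply, tv_apply, wF0]
  have hy2 : Good H (Fv 1 + E 1) := by rw [← bY]; exact hy1.map hb'H
  have hy3 : Good H (Fv 1) := by
    have := hy2.map (hG1 (-1))
    have e : (Tv (E 1) (-1)).1 (Fv 1 + E 1) = (Fv 1 : Vec 1 F) := by
      simp [tv_apply]
    rwa [e] at this
  have hT0 : Good H (E 0) := by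
    have := (hy3.map hb'H).smul (-1)
    have e : b'.1 (Fv 1) = (-E 0 : Vec 1 F) := by
      simp [hb', Subgroup.coe_mul, LinearEquiv.mul_apply, tv_apply, wF1]
    rwa [e, neg_smul, one_smul, neg_neg] at this
  have hw : w ∈ H := by
    have := mul_mem (hT0 (-1)) hb'H
    rwa [hb', ← mul_assoc, Tv, Tv, tv_mul, neg_add_cancel, tv_zero, one_mul] at this
  exact top_of le_rfl hw hT0 fun _ c => hS01 c

end

end CfsgLib.KnownA.SpTwoGen
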