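import Cfsg.Agent.Lib.Classical.SympSimple
import Cfsg.Agent.Lib.Classical.SympMatrix

/-!
# Generation of the symplectic group by a monomial element and two root groups
-/

set_option autoImplicit false
set_option linter.unusedSectionVars false

namespace CfsgLib.KnownA.SpTwoGen

noncomputable section

open CfsgLib.Classical

variable {F : Type*} [Field F] {n : ℕ}

/-- The space. -/
abbrev Vec (n : ℕ) (F : Type*) := Fin (n + 1) ⊕ Fin (n + 1) → F

/-- The symplectic group. -/
abbrev Sp (n : ℕ) (F : Type*) [Field F] : Subgroup (Vec n F ≃ₗ[F] Vec n F) :=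
  isomGroup (σ := RingHom.id F) (sympBil F (n + 1))

theorem hA : (sympBil F (n + 1)).IsAlt := sympBil_isAlt (n + 1)

theorem B_eq (x y : Vec n F) : sympBil F (n + 1) x y =
    ∑ i, (x (.inr i) * y (.inl i) - x (.inl i) * y (.inr i)) := by
  rw [sympBil_apply, sympForm_eq]

/-- Basis vector. -/
def E (i : Fin (n + 1)) : Vec n F := Pi.single (.inl i) 1

/-- Dual basis vector. -/
def Fv (i : Fin (n + 1)) : Vec n F := Pi.single (.inr i) 1

@[simp] theorem E_inl (i j : Fin (n + 1)) : (E i : Vec n F) (.inl j) = if j = i then 1 else 0 := by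
  simp [E, Pi.single_apply]

@[simp] theorem E_inr (i j : Fin (n + 1)) : (E i : Vec n F) (.inr j) = 0 := by
  simp [E]

@[simp] theorem F_inl (i j : Fin (n + 1)) : (Fv i : Vec n F) (.inl j) = 0 := by
  simp [Fv]

@[simp] theorem F_inr (i j : Fin (n + 1)) : (Fv i : Vec n F) (.inr j) = if j = i then 1 else 0 := by
  simp [Fv, Pi.single_apply]

@[simp] theorem B_E (x : Vec n F) (i : Fin (n + 1)) : sympBil F (n + 1) x (E i) = x (.inr i) := by
  simp [B_eq, Finset.sum_ite_eq']

@[simp] theorem B_F (x : Vec n F) (i : Fin (n + 1)) : sympBil F (n + 1) x (Fv i) = - x (.inl i) := by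
  simp [B_eq, Finset.sum_ite_eq']

/-- The cycle on coordinates. -/
def wFun (x : Vec n F) : Vec n F
  | .inl j => Fin.cases (-(x (.inr (Fin.last n)))) (fun i => x (.inl i.castSucc)) j
  | .inr j => Fin.cases (x (.inl (Fin.last n))) (fun i => x (.inr i.castSucc)) j

/-- Its inverse. -/
def wInv (x : Vec n F) : Vec n F
  | .inl j => Fin.lastCases (x (.inr 0)) (fun i => x (.inl i.succ)) j
  | .inr j => Fin.lastCases (-(x (.inl 0))) (fun i => x (.inr i.succ)) j

/-- The cycle. -/
def wLin : Vec n F ≃ₗ[F] Vec n F where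
  toFun := wFun
  invFun := wInv
  map_add' x y := by
    funext k
    rcases k with j | j <;> cases j using Fin.cases <;> simp [wFun, add_comm]
  map_smul' c x := by
    funext k
    rcases k with j | j <;> cases j using Fin.cases <;> simp [wFun]
  left_inv x := by
    funext k
    rcases k with j | j <;> cases j using Fin.lastCases <;> simp [wFun, wInv]
  right_inv x := by
    funext k
    rcases k with j | j <;> cases j using Fin.cases <;> simp [wFun, wInv]

/-- The cycle as an isometry. -/
def w : Sp n F := ⟨wLin, fun x y => by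
  show sympBil F (n + 1) (wFun x) (wFun y) = _
  rw [B_eq, B_eq, Fin.sum_univ_succ, Fin.sum_univ_castSucc]
  simp only [wFun, Fin.cases_zero, Fin.cases_succ]
  ring⟩

@[simp] theorem w_apply (x : Vec n F) : (w : Sp n F).1 x = wFun x := rfl

theorem w_E (i : Fin n) : wFun (E i.castSucc : Vec n F) = E i.succ := by
  funext k
  rcases k with j | j <;> cases j using Fin.cases <;>
    simp [wFun, (Fin.succ_ne_zero i).symm, (Fin.castSucc_lt_last i).ne']

theorem w_F (i : Fin n) : wFun (Fv i.castSucc : Vec n F) = Fv i.succ := by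
  funext k
  rcases k with j | j <;> cases j using Fin.cases <;>
    simp [wFun, (Fin.succ_ne_zero i).symm, (Fin.castSucc_lt_last i).ne']

theorem w_E_last : wFun (E (Fin.last n) : Vec n F) = Fv 0 := by
  funext k
  rcases k with j | j <;> cases j using Fin.cases <;> simp [wFun, Fin.succ_ne_zero]

theorem w_F_last : wFun (Fv (Fin.last n) : Vec n F) = -E 0 := by
  funext k
  rcases k with j | j <;> cases j using Fin.cases <;> simp [wFun, Fin.succ_ne_zero]

/-- Diagonal entries. -/
def hd (i : Fin (n + 1)) (t : Fˣ) : Fin (n + 1) ⊕ Fin (n + 1) → Fˣ :=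
  Sum.elim (fun j => if j = i then t else 1) (fun j => if j = i then t⁻¹ else 1)

/-- Scaling of one hyperbolic pair. -/
def hLin (i : Fin (n + 1)) (t : Fˣ) : Vec n F ≃ₗ[F] Vec n F where
  toFun x k := (hd i t k : F) * x k
  invFun x k := ((hd i t k)⁻¹ : Fˣ) * x k
  map_add' x y := by funext k; simp [mul_add]
  map_smul' c x := by funext k; simp only [Pi.smul_apply, smul_eq_mul, RingHom.id_apply]; ring
  left_inv x := by funext k; simp
  right_inv x := by funext k; simp

/-- The torus element of one hyperbolic pair. -/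
def hT (i : Fin (n + 1)) : Fˣ →* Sp n F where
  toFun t := ⟨hLin i t, fun x y => by
    rw [B_eq, B_eq]
    refine Finset.sum_congr rfl fun j _ => ?_
    have e : (hd i t (.inl j) : F) * hd i t (.inr j) = 1 := by
      rw [← Units.val_mul, Units.val_eq_one]
      simp only [hd, Sum.elim_inl, Sum.elim_inr]
      split_ifs <;> simp
    simp only [hLin, LinearEquiv.coe_mk, LinearMap.coe_mk, AddHom.coe_mk]
    linear_combination (x (.inr j) * y (.inl j) - x (.inl j) * y (.inr j)) * e⟩
  map_one' := Subtype.ext <| LinearEquiv.ext fun x => by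
    funext k; rcases k with j | j <;> simp [hLin, hd]
  map_mul' s t := Subtype.ext <| LinearEquiv.ext fun x => by
    funext k
    rcases k with j | j <;> simp [hLin, hd] <;> split_ifs <;> simp [mul_assoc, mul_comm]

theorem hT_apply (i : Fin (n + 1)) (t : Fˣ) (x : Vec n F) (k : Fin (n + 1) ⊕ Fin (n + 1)) :
    (hT i t).1 x k = (hd i t k : F) * x k := rfl

theorem hT_E_self (i : Fin (n + 1)) (t : Fˣ) : (hT i t).1 (E i) = (t : F) • (E i : Vec n F) := by
  funext k; rcases k with j | j <;> by_cases h : j = i <;> simp [hT_apply, hd, h]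

theorem hT_F_self (i : Fin (n + 1)) (t : Fˣ) :
    (hT i t).1 (Fv i) = ((t⁻¹ : Fˣ) : F) • (Fv i : Vec n F) := by
  funext k; rcases k with j | j <;> by_cases h : j = i <;> simp [hT_apply, hd, h]

theorem hT_E_ne {i j : Fin (n + 1)} (h : j ≠ i) (t : Fˣ) : (hT i t).1 (E j) = (E j : Vec n F) := by
  funext k; rcases k with l | l <;> by_cases h' : l = i <;> simp [hT_apply, hd, h', h.symm]

theorem hT_F_ne {i j : Fin (n + 1)} (h : j ≠ i) (t : Fˣ) : (hT i t).1 (Fv j) = (Fv j : Vec n F) := by
  funext k; rcases k with l | l <;> by_cases h' : l = i <;> simp [hT_apply, hd, h', h.symm]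

theorem w_hT (i : Fin n) (t : Fˣ) : w * hT i.castSucc t * w⁻¹ = (hT i.succ t : Sp n F) := by
  rw [mul_inv_eq_iff_eq_mul]
  refine Subtype.ext <| LinearEquiv.ext fun x => funext fun k => ?_
  simp only [Subgroup.coe_mul, LinearEquiv.mul_apply, w_apply]
  rcases k with j | j <;> cases j using Fin.cases <;>
    simp [wFun, hT_apply, hd, (Fin.succ_ne_zero i).symm, (Fin.castSucc_lt_last i).ne']

/-- The Siegel root element. -/
abbrev S (u v : Vec n F) (c : F) : Sp n F := sv (hA (F := F)) u v c

/-- The transvection. -/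
abbrev Tv (v : Vec n F) (c : F) : Sp n F := tv (hA (F := F)) v c

theorem S_add {u v : Vec n F} (h : sympBil F (n + 1) u v = 0) (c d : F) :
    S u v c * S u v d = S u v (c + d) := by
  refine Subtype.ext <| LinearEquiv.ext fun x => ?_
  have h' : sympBil F (n + 1) v u = 0 := hA.isRefl _ _ h
  simp only [Subgroup.coe_mul, LinearEquiv.mul_apply, sv_apply hA h, map_add, map_smul,
    LinearMap.add_apply, LinearMap.smul_apply, smul_eq_mul, h, h', hA u, hA v, mul_zero, add_zero]
  module

theorem S_zero {u v : Vec n F} (h : sympBil F (n + 1) u v = 0) : S u v 0 = 1 := by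
  refine Subtype.ext <| LinearEquiv.ext fun x => ?_
  simp [sv_apply hA h]

theorem S_swap {u v : Vec n F} (h : sympBil F (n + 1) u v = 0) (c : F) : S u v c = S v u c := by
  refine Subtype.ext <| LinearEquiv.ext fun x => ?_
  rw [sv_apply hA h, sv_apply hA (hA.isRefl _ _ h), add_comm (_ • v)]

theorem S_smul_right {u v : Vec n F} (h : sympBil F (n + 1) u v = 0) (a c : F) :
    S u (a • v) c = S u v (a * c) := by
  refine Subtype.ext <| LinearEquiv.ext fun x => ?_
  rw [sv_apply hA h, sv_apply hA (by rw [map_smul, h, smul_zero]), map_smul, smul_eq_mul]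
  module

theorem S_smul_left {u v : Vec n F} (h : sympBil F (n + 1) u v = 0) (a c : F) :
    S (a • u) v c = S u v (a * c) := by
  refine Subtype.ext <| LinearEquiv.ext fun x => ?_
  rw [sv_apply hA h, sv_apply hA (by simp [h]), map_smul, smul_eq_mul]
  module

theorem S_Tv_comm {u v : Vec n F} (h : sympBil F (n + 1) u v = 0) (c d : F) :
    Commute (S u v c) (Tv u d) := by
  refine Subtype.ext <| LinearEquiv.ext fun x => ?_
  have h' : sympBil F (n + 1) v u = 0 := hA.isRefl _ _ h
  simp only [Subgroup.coe_mul, LinearEquiv.mul_apply, sv_apply hA h, tv_apply, map_add, map_smul,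
    LinearMap.add_apply, LinearMap.smul_apply, smul_eq_mul, h, h', hA u, hA v, mul_zero, add_zero]
  module

theorem E_orth (i j : Fin (n + 1)) : sympBil F (n + 1) (E i) (E j) = 0 := by simp

theorem EF_orth {i j : Fin (n + 1)} (h : i ≠ j) : sympBil F (n + 1) (E i) (Fv j) = 0 := by
  simp [h.symm]

variable (H : Subgroup (Sp n F))

/-- All transvections along a vector lie in the subgroup. -/
def Good (v : Vec n F) : Prop := ∀ c, Tv v c ∈ H

variable {H}

theorem Good.map {g : Sp n F} (hg : g ∈ H) {v : Vec n F} (hv : Good H v) : Good H (g.1 v) := fun c => by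
  have := mul_mem (mul_mem hg (hv c)) (inv_mem hg)
  rwa [conj_tv] at this

theorem Good.of_map {g : Sp n F} (hg : g ∈ H) {v : Vec n F} (hv : Good H (g.1 v)) : Good H v := by
  have h := hv.map (inv_mem hg)
  rwa [← LinearEquiv.mul_apply, ← Subgroup.coe_mul, inv_mul_cancel, OneMemClass.coe_one,
    LinearEquiv.coe_one, id_eq] at h

theorem Good.smul {v : Vec n F} (hv : Good H v) (a : F) : Good H (a • v) := fun c => by
  rw [Tv, tv_smul]; exact hv _

variable (hn : 1 ≤ n) (hw : w ∈ H) (hT : Good H (E 0)) (hS : ∀ (h : 1 < n + 1) c, S (E 0) (E ⟨1, h⟩) c ∈ H)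
include hn hw hT hS

theorem good_E : ∀ i, Good H (E i) := by
  intro i
  induction i using Fin.induction with
  | zero => exact hT
  | succ i ih =>
    rw [← w_E]
    exact ih.map hw

theorem good_F : ∀ i, Good H (Fv i) := by
  intro i
  induction i using Fin.induction with
  | zero =>
    rw [← w_E_last]
    exact (good_E hn hw hT hS _).map hw
  | succ i ih =>
    rw [← w_F]
    exact ih.map hw

theorem S_adj : ∀ (j : ℕ) (h : j + 1 < n + 1) (c : F), S (E ⟨j, by omega⟩) (E ⟨j + 1, h⟩) c ∈ H := by
  intro j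
  induction j with
  | zero => intro h c; exact hS h c
  | succ j ih =>
    intro h c
    have := mul_mem (mul_mem hw (ih (by omega) c)) (inv_mem hw)
    rw [conj_sv, w_apply, w_apply] at this
    have e1 : wFun (E ⟨j, by omega⟩ : Vec n F) = E ⟨j + 1, by omega⟩ := by
      have := w_E (F := F) (⟨j, by omega⟩ : Fin n)
      simpa using this
    have e2 : wFun (E ⟨j + 1, by omega⟩ : Vec n F) = E ⟨j + 1 + 1, h⟩ := by
      have := w_E (F := F) (⟨j + 1, by omega⟩ : Fin n)
      simpa using this
    rwa [e1, e2] at this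

theorem swap_mem (j : Fin (n + 1)) : ∃ g ∈ H, g.1 (E j) = -(Fv j : Vec n F) ∧
    ∀ i, i ≠ j → g.1 (E i) = (E i : Vec n F) := by
  refine ⟨Tv (E j) 1 * Tv (Fv j) 1 * Tv (E j) 1,
    mul_mem (mul_mem (good_E hn hw hT hS j 1) (good_F hn hw hT hS j 1)) (good_E hn hw hT hS j 1),
    ?_, fun i hi => ?_⟩
  · simp [tv_apply, Subgroup.coe_mul, LinearEquiv.mul_apply]
  · simp [tv_apply, Subgroup.coe_mul, LinearEquiv.mul_apply, hi.symm]

theorem pair_mem (j : Fin (n + 1)) (x : Vec n F) : ∃ g ∈ H, (g.1 x) (.inr j) = 0 ∧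
    ∀ i, i ≠ j → (g.1 x) (.inl i) = x (.inl i) ∧ (g.1 x) (.inr i) = x (.inr i) := by
  by_cases hb : x (.inr j) = 0
  · exact ⟨1, one_mem _, by simpa using hb, fun i _ => by simp⟩
  refine ⟨Tv (Fv j) 1 * Tv (E j) ((x (.inr j) - x (.inl j)) / x (.inr j)),
    mul_mem (good_F hn hw hT hS j _) (good_E hn hw hT hS j _), ?_, fun i hi => ?_⟩
  · simp [tv_apply, Subgroup.coe_mul, LinearEquiv.mul_apply]
    field_simp
    ring
  · simp [tv_apply, Subgroup.coe_mul, LinearEquiv.mul_apply, hi]

theorem pairs_mem (s : Finset (Fin (n + 1))) (x : Vec n F) :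
    ∃ g ∈ H, ∀ i ∈ s, (g.1 x) (.inr i) = 0 := by
  induction s using Finset.induction with
  | empty => exact ⟨1, one_mem _, by simp⟩
  | @insert a s ha ih =>
    obtain ⟨g, hg, h0⟩ := ih
    obtain ⟨k, hk, k0, k1⟩ := pair_mem hn hw hT hS a (g.1 x)
    refine ⟨k * g, mul_mem hk hg, fun i hi => ?_⟩
    rw [Subgroup.coe_mul, LinearEquiv.mul_apply]
    rcases Finset.mem_insert.1 hi with rfl | hi
    · exact k0
    · rw [(k1 i fun e => ha (e ▸ hi)).2]; exact h0 i hi

theorem good_supp : ∀ (k : ℕ) (x : Vec n F), (∀ i, x (.inr i) = 0) →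
    (∀ i : Fin (n + 1), k < i.val → x (.inl i) = 0) → k < n + 1 → Good H x := by
  intro k
  induction k with
  | zero =>
    intro x hr hl _
    have : x = x (.inl 0) • E 0 := by
      funext l
      rcases l with i | i
      · by_cases hi : i = 0
        · subst hi; simp
        · simp [hi, hl i (Nat.pos_of_ne_zero fun e => hi (Fin.ext e))]
      · simp [hr i]
    rw [this]
    exact hT.smul _
  | succ k ih =>
    classical
    intro x hr hl hk
    set i0 : Fin (n + 1) := ⟨k, by omega⟩ with hi0
    set i1 : Fin (n + 1) := ⟨k + 1, hk⟩ with hi1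
    have hne : i0 ≠ i1 := by simp [hi0, hi1, Fin.ext_iff]
    by_cases hx : x (.inl i1) = 0
    · refine ih x hr (fun i hi => ?_) (by omega)
      rcases (Nat.lt_or_ge (k + 1) i.val) with h | h
      · exact hl i h
      · rwa [show i = i1 from Fin.ext (by simp [hi1]; omega)]
    have hadj := S_adj hn hw hT hS k hk
    obtain ⟨g1, hg1, g11, g12⟩ := swap_mem hn hw hT hS i1
    obtain ⟨g0, hg0, g01, g02⟩ := swap_mem hn hw hT hS i0
    have s1 : ∀ c, S (E i0) (-Fv i1) c ∈ H := fun c => by
      have := mul_mem (mul_mem hg1 (hadj c)) (inv_mem hg1)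
      rwa [conj_sv, g12 i0 hne, g11] at this
    have s0 : ∀ c, S (-Fv i0) (E i1) c ∈ H := fun c => by
      have := mul_mem (mul_mem hg0 (hadj c)) (inv_mem hg0)
      rwa [conj_sv, g01, g02 i1 hne.symm] at this
    have o1 : sympBil F (n + 1) (E i0) (-Fv i1) = 0 := by simp [hne.symm]
    have o0 : sympBil F (n + 1) (-Fv i0) (E i1) = 0 := by simp [hne.symm]
    -- make the lower coefficient non-zero
    set y := (S (E i0) (-Fv i1) (if x (.inl i0) = 0 then 1 else 0)).1 x with hy
    refine Good.of_map (s1 (if x (.inl i0) = 0 then 1 else 0)) ?_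
    rw [← hy]
    have yr : ∀ i, y (.inr i) = 0 := fun i => by
      by_cases h : x (.inl i0) = 0 <;> simp [hy, h, sv_apply hA o1, hr]
    have yl : ∀ i, i ≠ i0 → y (.inl i) = x (.inl i) := fun i hi => by
      by_cases h : x (.inl i0) = 0 <;> simp [hy, h, sv_apply hA o1, hr, hi]
    have y0 : y (.inl i0) ≠ 0 := by
      simp only [hy, sv_apply hA o1]
      split_ifs with h <;> simp [hr, h, hx]
    refine Good.of_map (s0 (-(y (.inl i1)) / y (.inl i0))) (ih _ ?_ ?_ (by omega))
    · intro i; simp [sv_apply hA o0, yr]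
    · intro i hi
      by_cases hii : i = i1
      · subst hii
        simp [sv_apply hA o0, yr, y0]
      · have h1 : k + 1 < i.val := by
          have : i.val ≠ k + 1 := fun e => hii (Fin.ext e)
          omega
        have h2 : i ≠ i0 := fun e => by simp [e, hi0] at hi
        simp [sv_apply hA o0, yr, hii, h2, yl i h2, hl i h1]

/-- The core of the generation. -/
theorem top_of : H = ⊤ := by
  have hall : ∀ v : Vec n F, Good H v := by
    intro v
    obtain ⟨g, hg, h0⟩ := pairs_mem hn hw hT hS Finset.univ v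
    exact Good.of_map hg (good_supp hn hw hT hS n _ (fun i => h0 i (Finset.mem_univ i))
      (fun i hi => absurd hi (by have := i.2; omega)) (by omega))
  rw [eq_top_iff, ← tvGroup_eq_top (hA (F := F) (n := n)) (sympBil_nondegenerate (n + 1))]
  refine (Subgroup.closure_le _).2 ?_
  rintro _ ⟨v, c, rfl⟩
  exact hall v c

end

end CfsgLib.KnownA.SpTwoGen
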