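import Cfsg.Agent.Lib.KnownA.SpTwoGen.Cases

/-!
# Two generators of the symplectic group over the field with two elements
-/

set_option autoImplicit false
set_option linter.unusedSectionVars false

namespace CfsgLib.KnownA.SpTwoGen

open CfsgLib.Classical

noncomputable section

variable {F : Type*} [Field F] [Fintype F] {n : ℕ}

/-- The first three hyperbolic pairs. -/
def pos (hn : 2 ≤ n) : Fin 6 → Fin (n + 1) ⊕ Fin (n + 1) :=
  ![.inl ⟨0, by omega⟩, .inl ⟨1, by omega⟩, .inl ⟨2, by omega⟩,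
    .inr ⟨0, by omega⟩, .inr ⟨1, by omega⟩, .inr ⟨2, by omega⟩]

theorem eq_cases (hn : 2 ≤ n) (k : Fin (n + 1) ⊕ Fin (n + 1)) (P : Prop)
    (h : ∀ i, k = pos hn i → P)
    (h' : ∀ j : Fin (n + 1), j ≠ ⟨0, by omega⟩ → j ≠ ⟨1, by omega⟩ → j ≠ ⟨2, by omega⟩ →
      (k = .inl j ∨ k = .inr j) → P) : P := by
  rcases k with j | j
  · by_cases h0 : j = ⟨0, by omega⟩
    · exact h 0 (by simp [pos, h0])
    by_cases h1 : j = ⟨1, by omega⟩
    · exact h 1 (by simp [pos, h1])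
    by_cases h2 : j = ⟨2, by omega⟩
    · exact h 2 (by simp [pos, h2])
    exact h' j h0 h1 h2 (.inl rfl)
  · by_cases h0 : j = ⟨0, by omega⟩
    · exact h 3 (by simp [pos, h0])
    by_cases h1 : j = ⟨1, by omega⟩
    · exact h 4 (by simp [pos, h1])
    by_cases h2 : j = ⟨2, by omega⟩
    · exact h 5 (by simp [pos, h2])
    exact h' j h0 h1 h2 (.inr rfl)

variable [CharP F 2]

/-- The element acts as the given matrix on the first three pairs and trivially on the others. -/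
def Acts (hn : 2 ≤ n) (g : Sp n F) (M : Matrix (Fin 6) (Fin 6) (ZMod 2)) : Prop :=
  (∀ x i, g.1 x (pos hn i) = ∑ j, (ZMod.castHom dvd_rfl F (M i j)) * x (pos hn j)) ∧
    ∀ x k, (∀ i, k ≠ pos hn i) → g.1 x k = x k

theorem Acts.mul {hn : 2 ≤ n} {g h : Sp n F} {M N : Matrix (Fin 6) (Fin 6) (ZMod 2)}
    (hg : Acts hn g M) (hh : Acts hn h N) : Acts hn (g * h) (M * N) := by
  refine ⟨fun x i => ?_, fun x k hk => ?_⟩
  · simp only [Subgroup.coe_mul, LinearEquiv.mul_apply, hg.1, hh.1, Matrix.mul_apply, map_sum,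
      map_mul, Finset.mul_sum, Finset.sum_mul]
    rw [Finset.sum_comm]
    simp only [mul_assoc]
  · simp only [Subgroup.coe_mul, LinearEquiv.mul_apply]
    rw [hg.2 _ _ hk, hh.2 _ _ hk]

theorem Acts.one (hn : 2 ≤ n) : Acts hn (1 : Sp n F) 1 := by
  refine ⟨fun x i => ?_, fun x k _ => rfl⟩
  simp [Matrix.one_apply]

theorem Acts.pow {hn : 2 ≤ n} {g : Sp n F} {M : Matrix (Fin 6) (Fin 6) (ZMod 2)}
    (hg : Acts hn g M) (k : ℕ) : Acts hn (g ^ k) (M ^ k) := by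
  induction k with
  | zero => exact Acts.one hn
  | succ k ih => rw [pow_succ, pow_succ]; exact ih.mul hg

theorem Acts.unique {hn : 2 ≤ n} {g h : Sp n F} {M : Matrix (Fin 6) (Fin 6) (ZMod 2)}
    (hg : Acts hn g M) (hh : Acts hn h M) : g = h := by
  refine Subtype.ext <| LinearEquiv.ext fun x => funext fun k => ?_
  by_cases hk : ∃ i, k = pos hn i
  · obtain ⟨i, rfl⟩ := hk
    rw [hg.1, hh.1]
  · push Not at hk
    rw [hg.2 _ _ hk, hh.2 _ _ hk]

variable (hn : 2 ≤ n)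

/-- The generating unipotent element and its shifts. -/
abbrev U (a b : Vec n F) : Sp n F := S a b 1 * Tv a 1

theorem acts_u : Acts hn (U (E ⟨1, by omega⟩) (E ⟨2, by omega⟩) : Sp n F)
    !![1,0,0,0,0,0;0,1,0,0,1,1;0,0,1,0,1,0;0,0,0,1,0,0;0,0,0,0,1,0;0,0,0,0,0,1] := by
  refine ⟨fun x i => ?_, fun x k hk => ?_⟩
  · fin_cases i <;>
      simp [U, Fin.sum_univ_succ, pos, sv_apply (hA (F := F) (n := n)) (E_orth _ _), tv_apply, Subgroup.coe_mul,
        LinearEquiv.mul_apply, CharTwo.neg_eq] <;> ring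
  · refine eq_cases hn k _ (fun i hi => absurd hi (hk i)) fun j h0 h1 h2 hj => ?_
    rcases hj with rfl | rfl <;>
      simp [U, sv_apply (hA (F := F) (n := n)) (E_orth _ _), tv_apply, Subgroup.coe_mul, LinearEquiv.mul_apply, h1, h2]

theorem acts_l : Acts hn (U (E ⟨0, by omega⟩) (E ⟨1, by omega⟩) : Sp n F)
    !![1,0,0,1,1,0;0,1,0,1,0,0;0,0,1,0,0,0;0,0,0,1,0,0;0,0,0,0,1,0;0,0,0,0,0,1] := by
  refine ⟨fun x i => ?_, fun x k hk => ?_⟩
  · fin_cases i <;>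
      simp [U, Fin.sum_univ_succ, pos, sv_apply (hA (F := F) (n := n)) (E_orth _ _), tv_apply, Subgroup.coe_mul,
        LinearEquiv.mul_apply, CharTwo.neg_eq] <;> ring
  · refine eq_cases hn k _ (fun i hi => absurd hi (hk i)) fun j h0 h1 h2 hj => ?_
    rcases hj with rfl | rfl <;>
      simp [U, sv_apply (hA (F := F) (n := n)) (E_orth _ _), tv_apply, Subgroup.coe_mul, LinearEquiv.mul_apply, show j ≠ 0 from h0, h1]

theorem F_orth (i j : Fin (n + 1)) : sympBil F (n + 1) (Fv i) (Fv j) = 0 := by simp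

theorem acts_o : Acts hn (U (Fv ⟨1, by omega⟩) (Fv ⟨2, by omega⟩) : Sp n F)
    !![1,0,0,0,0,0;0,1,0,0,0,0;0,0,1,0,0,0;0,0,0,1,0,0;0,1,1,0,1,0;0,1,0,0,0,1] := by
  refine ⟨fun x i => ?_, fun x k hk => ?_⟩
  · fin_cases i <;>
      simp [U, Fin.sum_univ_succ, pos, sv_apply (hA (F := F) (n := n)) (F_orth _ _), tv_apply, Subgroup.coe_mul,
        LinearEquiv.mul_apply, CharTwo.neg_eq] <;> ring
  · refine eq_cases hn k _ (fun i hi => absurd hi (hk i)) fun j h0 h1 h2 hj => ?_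
    rcases hj with rfl | rfl <;>
      simp [U, sv_apply (hA (F := F) (n := n)) (F_orth _ _), tv_apply, Subgroup.coe_mul, LinearEquiv.mul_apply, h1, h2]

theorem acts_t : Acts hn (Tv (E ⟨0, by omega⟩) 1 : Sp n F)
    !![1,0,0,1,0,0;0,1,0,0,0,0;0,0,1,0,0,0;0,0,0,1,0,0;0,0,0,0,1,0;0,0,0,0,0,1] := by
  refine ⟨fun x i => ?_, fun x k hk => ?_⟩
  · fin_cases i <;> simp [Fin.sum_univ_succ, pos, tv_apply, CharTwo.neg_eq]
  · refine eq_cases hn k _ (fun i hi => absurd hi (hk i)) fun j h0 h1 h2 hj => ?_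
    rcases hj with rfl | rfl <;> simp [tv_apply, show j ≠ 0 from h0]

/-- The word giving a transvection. -/
theorem word : ((U (E ⟨1, by omega⟩) (E ⟨2, by omega⟩) : Sp n F) * U (E ⟨0, by omega⟩) (E ⟨1, by omega⟩) *
      U (Fv ⟨1, by omega⟩) (Fv ⟨2, by omega⟩)) ^ 5 = Tv (E ⟨0, by omega⟩) 1 := by
  refine ((((acts_u hn).mul (acts_l hn)).mul (acts_o hn)).pow 5).unique ?_
  have e : ((!![1,0,0,0,0,0;0,1,0,0,1,1;0,0,1,0,1,0;0,0,0,1,0,0;0,0,0,0,1,0;0,0,0,0,0,1] :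
      Matrix (Fin 6) (Fin 6) (ZMod 2)) *
      !![1,0,0,1,1,0;0,1,0,1,0,0;0,0,1,0,0,0;0,0,0,1,0,0;0,0,0,0,1,0;0,0,0,0,0,1] *
      !![1,0,0,0,0,0;0,1,0,0,0,0;0,0,1,0,0,0;0,0,0,1,0,0;0,1,1,0,1,0;0,1,0,0,0,1]) ^ 5 =
      !![1,0,0,1,0,0;0,1,0,0,0,0;0,0,1,0,0,0;0,0,0,1,0,0;0,0,0,0,1,0;0,0,0,0,0,1] := by
    decide +kernel
  rw [e]
  exact acts_t hn

omit hn in
theorem w_conj_U (a b : Vec n F) : w * U a b * w⁻¹ = U (wFun a) (wFun b) := by
  rw [U, conj_mul_conj, conj_sv, conj_tv, w_apply, w_apply]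

/-- Two generators when the field has two elements. -/
theorem gen_char_two (hn : 2 ≤ n) (hq : Fintype.card F = 2) :
    ∃ a b : Sp n F, Subgroup.closure {a, b} = ⊤ := by
  classical
  refine ⟨U (E ⟨1, by omega⟩) (E ⟨2, by omega⟩), w, ?_⟩
  set H := Subgroup.closure
    ({U (E ⟨1, by omega⟩) (E ⟨2, by omega⟩), w} : Set (Sp n F)) with hH
  have hw : w ∈ H := Subgroup.subset_closure (by simp)
  have hu : (U (E ⟨1, by omega⟩) (E ⟨2, by omega⟩) : Sp n F) ∈ H :=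
    Subgroup.subset_closure (by simp)
  have step : ∀ a b a' b' : Vec n F, wFun a = a' → wFun b = b' → U a b ∈ H → U a' b' ∈ H := by
    rintro a b _ _ rfl rfl h
    rw [← w_conj_U]
    exact mul_mem (mul_mem hw h) (inv_mem hw)
  have eE : ∀ (i : ℕ) (h : i + 1 < n + 1), wFun (E ⟨i, by omega⟩ : Vec n F) = E ⟨i + 1, h⟩ :=
    fun i h => w_E (F := F) (⟨i, by omega⟩ : Fin n)
  have eF : ∀ (i : ℕ) (h : i + 1 < n + 1), wFun (Fv ⟨i, by omega⟩ : Vec n F) = Fv ⟨i + 1, h⟩ :=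
    fun i h => w_F (F := F) (⟨i, by omega⟩ : Fin n)
  have hl : (U (E ⟨0, by omega⟩) (E ⟨1, by omega⟩) : Sp n F) ∈ H := by
    have := mul_mem (mul_mem (inv_mem hw) hu) hw
    rwa [← eE 0 (by omega), ← eE 1 (by omega), ← w_conj_U,
      show ∀ g : Sp n F, w⁻¹ * (w * g * w⁻¹) * w = g from fun g => by group] at this
  have hi : ∀ (i : ℕ) (h : i + 1 < n + 1), (U (E ⟨i, by omega⟩) (E ⟨i + 1, h⟩) : Sp n F) ∈ H := by
    intro i
    induction i with
    | zero => intro h; exact hl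
    | succ i ih => intro h; exact step _ _ _ _ (eE i (by omega)) (eE (i + 1) h) (ih (by omega))
  obtain ⟨k, rfl⟩ : ∃ k, n = k + 1 := ⟨n - 1, by omega⟩
  have hlast : (U (E (Fin.last (k + 1))) (Fv 0) : Sp (k + 1) F) ∈ H :=
    step _ _ _ _ (eE k (by omega)) w_E_last (hi k (by omega))
  have hr : (U (Fv ⟨0, by omega⟩) (Fv ⟨1, by omega⟩) : Sp (k + 1) F) ∈ H :=
    step _ _ _ _ w_E_last (eF 0 (by omega)) hlast
  have ho : (U (Fv ⟨1, by omega⟩) (Fv ⟨2, by omega⟩) : Sp (k + 1) F) ∈ H :=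
    step _ _ _ _ (eF 0 (by omega)) (eF 1 (by omega)) hr
  have ht : Tv (E ⟨0, by omega⟩ : Vec (k + 1) F) 1 ∈ H := by
    rw [← word hn]
    exact pow_mem (mul_mem (mul_mem hu hl) ho) 5
  have h01 : ∀ c : F, c = 0 ∨ c = 1 := by
    intro c
    by_contra hc
    push Not at hc
    have : ({0, 1, c} : Finset F).card ≤ 2 := hq ▸ Finset.card_le_univ _
    rw [Finset.card_eq_three.2 ⟨0, 1, c, zero_ne_one, hc.1.symm, hc.2.symm, rfl⟩] at this
    omega
  have hT : Good H (E 0 : Vec (k + 1) F) := fun c => by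
    rcases h01 c with rfl | rfl
    · rw [Tv, tv_zero]; exact one_mem _
    · exact ht
  refine top_of (by omega) hw hT fun h c => ?_
  rcases h01 c with rfl | rfl
  · rw [S_zero (E_orth _ _)]; exact one_mem _
  · have h2 : (0 : Fin (k + 1 + 1)) = ⟨0, by omega⟩ := rfl
    have := mul_mem hl (inv_mem ht)
    rw [U, mul_inv_cancel_right] at this
    rw [h2]
    exact this

end

end CfsgLib.KnownA.SpTwoGen
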